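import Mathlib
import Cfsg.Agent.Lib.PGroups.Automorphism

/-!
# Automorphisms of `p`-groups fixing all `p ^ n`-th roots of unity (`p ^ n ≠ 2`)

A variant of `Cfsg.Agent.Lib.PGroups.fixed_of_fixed_omega` covering `p = 2` with fourth roots, and
its form for a conjugation.
-/

set_option autoImplicit false

namespace Cfsg.Agent.Lib.OmegaFixed

open Subgroup Cfsg.Agent.Lib.PGroups
open scoped commutatorElement

variable {G : Type*} [Group G] {p : ℕ}

/-- An automorphism of `p'`-order fixing all elements `x` with `x ^ p ^ n = 1`, where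
`p ^ n ≠ 2` and `n ≥ 1`, fixes all elements of every invariant subgroup. -/
theorem fixed_of_fixed_roots [Finite G] [Fact p.Prime] (n : ℕ) (hn : p ^ n ≠ 2) (hn0 : 1 ≤ n)
    (hG : IsPGroup p G) (a : MulAut G) (ha : (orderOf a).Coprime p)
    (h : ∀ x : G, x ^ p ^ n = 1 → a x = x) :
    ∀ H : Subgroup G, (∀ x ∈ H, a x ∈ H) → ∀ x ∈ H, a x = x := by
  intro H
  induction hN : Nat.card H using Nat.strong_induction_on generalizing H with
  | _ N ih =>
    intro hH
    have hsub : ∀ K : Subgroup G, K < H → (∀ x ∈ K, a x ∈ K) → ∀ x ∈ K, a x = x := fun K hK hKi =>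
      ih _ (hN ▸ lt_of_le_of_ne (Subgroup.card_le_of_le hK.le)
        (fun he => hK.ne (Subgroup.eq_of_le_of_card_ge hK.le he.ge))) K rfl hKi
    let D := Subgroup.closure {x | ∃ g ∈ H, x = g⁻¹ * a g}
    have hDH : D ≤ H := (Subgroup.closure_le H).mpr fun x ⟨g, hg, hx⟩ =>
      hx ▸ H.mul_mem (H.inv_mem hg) (hH g hg)
    rcases hDH.lt_or_eq with hlt | heq
    · have hDi : ∀ x ∈ D, a x ∈ D := by
        intro x hx
        induction hx using Subgroup.closure_induction with
        | mem y hy =>
            obtain ⟨g, hg, rfl⟩ := hy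
            exact Subgroup.subset_closure ⟨a g, hH g hg, by rw [map_mul, map_inv]⟩
        | one => simp
        | mul u v _ _ hu hv => rw [map_mul]; exact D.mul_mem hu hv
        | inv u _ hu => rw [map_inv]; exact D.inv_mem hu
      exact fun x hx => eq_of_fixed_diff hG a ha x
        (hsub D hlt hDi _ (Subgroup.subset_closure ⟨x, hx, rfl⟩))
    · rcases eq_or_ne H ⊥ with rfl | hne
      · exact fun x hx => by simp [Subgroup.mem_bot.mp hx]
      have : Nontrivial H := (Subgroup.nontrivial_iff_ne_bot H).mpr hne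
      set Φ := (frattini H).map H.subtype with hΦdef
      have hΦH : Φ < H := by
        refine lt_of_le_of_ne (Subgroup.map_subtype_le _) fun he => ?_
        have h1 : (⊥ : Subgroup H) ⊔ frattini H = ⊤ := by
          rw [bot_sup_eq]
          refine Subgroup.map_injective H.subtype_injective ?_
          rw [← hΦdef, he, ← MonoidHom.range_eq_map, Subgroup.range_subtype]
        exact bot_ne_top (frattini_nongenerating h1)
      have hΦi : ∀ x ∈ Φ, a x ∈ Φ := by
        rintro x ⟨y, hy, rfl⟩
        let φ : H ≃* H :=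
          MulEquiv.ofBijective
            ({ toFun := fun z => ⟨a z, hH z z.2⟩
               map_one' := Subtype.ext (map_one a)
               map_mul' := fun u v => Subtype.ext (map_mul a (u : G) v) } : H →* H)
            (Finite.injective_iff_bijective.mp fun u v huv =>
              Subtype.ext (a.injective (congrArg Subtype.val huv)))
        exact ⟨φ y, (SetLike.ext_iff.mp (frattini_characteristic.fixed φ) y).mpr hy, rfl⟩
      have hfix := hsub Φ hΦH hΦi
      have hcen : ∀ x ∈ Φ, ∀ y ∈ H, Commute y x := by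
        intro x hx
        have key : H ≤ Subgroup.centralizer {x} := by
          refine heq.ge.trans ((Subgroup.closure_le _).mpr ?_)
          rintro _ ⟨g, hg, rfl⟩
          rw [SetLike.mem_coe, Subgroup.mem_centralizer_singleton_iff]
          refine (commute_of_fixed a g x (hfix x hx) (hfix _ ?_)).eq
          obtain ⟨y, hy, rfl⟩ := hx
          exact ⟨⟨g, hg⟩ * y * ⟨g, hg⟩⁻¹, (inferInstance : (frattini H).Normal).conj_mem y hy _,
            rfl⟩
        exact fun y hy => Subgroup.mem_centralizer_singleton_iff.mp (key hy)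
      intro g hg
      set d := g⁻¹ * a g with hd
      have hdH : d ∈ H := H.mul_mem (H.inv_mem hg) (hH g hg)
      have hHp := hG.to_subgroup H
      have hgp : g ^ p ∈ Φ := ⟨⟨g, hg⟩ ^ p, pow_mem_frattini hHp _, rfl⟩
      have hc : ∀ x ∈ H, ∀ y ∈ H, ⁅x, y⁆ ∈ Φ := fun x hx y hy =>
        ⟨⁅(⟨x, hx⟩ : H), ⟨y, hy⟩⁆, commutatorElement_mem_frattini hHp _ _, rfl⟩
      have hcp : ∀ x ∈ H, ∀ y ∈ H, ⁅x, y⁆ ^ p = 1 := fun x hx y hy => by
        rw [← commutatorElement_pow_left_of_central x y (hcen _ (hc x hx y hy) x hx),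
          commutatorElement_eq_one_iff_mul_comm]
        exact (hcen _ ⟨⟨x, hx⟩ ^ p, pow_mem_frattini hHp _, rfl⟩ y hy).eq.symm
      obtain ⟨t, ht⟩ : p ∣ (p ^ n).choose 2 := prime_dvd_choose_two hn hn0
      have hgpn : g ^ p ^ n ∈ Φ := by
        obtain ⟨m, hm⟩ : p ∣ p ^ n := dvd_pow_self p (by omega)
        rw [hm, pow_mul]
        exact Φ.pow_mem hgp m
      have hpow : (g * d) ^ p ^ n = g ^ p ^ n * d ^ p ^ n := by
        rw [mul_pow_of_central_commutator g d (hcen _ (hc d hdH g hg) g hg)
          (hcen _ (hc d hdH g hg) d hdH), ht, pow_mul, hcp d hdH g hg, one_pow, mul_one]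
      have hdp : d ^ p ^ n = 1 := by
        have h1 : a (g ^ p ^ n) = g ^ p ^ n := hfix _ hgpn
        rw [map_pow, show a g = g * d by rw [hd]; group, hpow] at h1
        exact mul_eq_left.mp h1
      exact eq_of_fixed_diff hG a ha g (h d hdp)

/-- A `p'`-element normalizing a `p`-subgroup and centralizing all its `p ^ n`-th roots of unity
centralizes it. -/
theorem commute_of_fixed_roots [Finite G] [Fact p.Prime] (n : ℕ) (hn : p ^ n ≠ 2) (hn0 : 1 ≤ n)
    {Q : Subgroup G} (hQ : IsPGroup p Q) {y : G} (hy : y ∈ normalizer (Q : Set G))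
    (hcop : (orderOf y).Coprime p) (h : ∀ x ∈ Q, x ^ p ^ n = 1 → y * x = x * y) :
    ∀ x ∈ Q, y * x = x * y := by
  intro x hx
  let φ : normalizer (Q : Set G) →* MulAut Q := Q.normalizerMonoidHom
  have hcop' : (orderOf (φ ⟨y, hy⟩)).Coprime p :=
    Nat.Coprime.coprime_dvd_left ((orderOf_map_dvd φ _).trans (by rw [Subgroup.orderOf_mk])) hcop
  have h1 : ∀ z : Q, φ ⟨y, hy⟩ z = z ↔ y * z = z * y := by
    intro z
    rw [Subtype.ext_iff]
    show y * z * y⁻¹ = z ↔ _
    exact mul_inv_eq_iff_eq_mul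
  have h2 := fixed_of_fixed_roots n hn hn0 hQ (φ ⟨y, hy⟩) hcop'
    (fun z hz => (h1 z).2 (h z z.2 (by simpa using congrArg Subtype.val hz))) ⊤
    (fun _ _ => trivial) ⟨x, hx⟩ trivial
  exact (h1 _).1 h2

end Cfsg.Agent.Lib.OmegaFixed
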